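/-
The presented Suzuki group, and the numbering of its generators.
-/
import Cfsg.Agent.Lib.Spor.TC.Cox
import Cfsg.Agent.Lib.Spor.Suz.Rels
import Cfsg.Prelude.Def_Spor_Suz

namespace CfsgLib.Spor.Suz

open CfsgLib.Spor.TC

/-- The number of a generator. -/
def num : Cfsg.Spor.Suz.Gen → ℕ
  | .a => 0 | .b => 1 | .c => 2 | .d => 3 | .e => 4 | .f => 5 | .g => 6

/-- The generator of a number. -/
def nam : ℕ → Cfsg.Spor.Suz.Gen
  | 0 => .a | 1 => .b | 2 => .c | 3 => .d | 4 => .e | 5 => .f | _ => .g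

/-- The further relators as words. -/
def more : List PowRel :=
  [([0, 3, 2, 3, 2, 3, 2, 3, 2], 1), ([0, 6, 5, 6, 5], 1), ([0, 1, 2, 5], 5), ([1, 5, 6], 5),
    ([1, 2, 3, 2, 3, 1, 2, 3, 2, 3, 1, 2, 3, 2, 3, 1, 2, 3, 2, 3, 1, 2, 3, 2, 3, 4], 3)]

/-- The numbered presentation. -/
def coxData : CoxData Cfsg.Spor.Suz.edges Cfsg.Spor.Suz.extra where
  k := 7
  num := num
  nam := nam
  num_lt a := by cases a <;> decide
  nam_num a := by cases a <;> rfl
  num_nam x hx := by interval_cases x <;> rfl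
  nodes a := by cases a <;> decide
  more := more
  more_iff g f hg hf := by
    have hinv : ∀ x, (g x)⁻¹ = g x := fun x => inv_eq_of_mul_eq_one_right (hg x)
    simp only [more, Cfsg.Spor.Suz.extra, List.forall_mem_cons, List.not_mem_nil, false_implies, implies_true,
      and_true, map_mul, map_inv, map_pow, hf, num, ev, List.map_cons, List.map_nil, List.prod_cons, List.prod_nil,
      mul_one, pow_one]
    simp only [pow_succ, pow_zero, one_mul, mul_inv_rev, hinv, mul_assoc]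

theorem rels_eq : coxData.rels = relsG := by decide +kernel

theorem gens_abcdef : ({Cfsg.Spor.Suz.a, Cfsg.Spor.Suz.b, Cfsg.Spor.Suz.c, Cfsg.Spor.Suz.d, Cfsg.Spor.Suz.e,
    Cfsg.Spor.Suz.f} : Set (FreeGroup Cfsg.Spor.Suz.Gen)) =
    (fun x => FreeGroup.of (coxData.nam x)) '' {x | x ∈ [0, 1, 2, 3, 4, 5]} := by
  ext x; simp [coxData, nam, eq_comm]

theorem gens_abcdfg : ({Cfsg.Spor.Suz.a, Cfsg.Spor.Suz.b, Cfsg.Spor.Suz.c, Cfsg.Spor.Suz.d, Cfsg.Spor.Suz.f,
    Cfsg.Spor.Suz.g} : Set (FreeGroup Cfsg.Spor.Suz.Gen)) =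
    (fun x => FreeGroup.of (coxData.nam x)) '' {x | x ∈ [0, 1, 2, 3, 5, 6]} := by
  ext x; simp [coxData, nam, eq_comm]

end CfsgLib.Spor.Suz
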