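/-
Order and simplicity of the presented Suzuki group, along `3.A₆.2² < J₂ < G₂(4) < Suz`.
-/
import Cfsg.Agent.Lib.Spor.TC.Cosets
import Cfsg.Agent.Lib.Spor.Suz.Cox
import Cfsg.Agent.Lib.Spor.Suz.C3.All
import Cfsg.Agent.Lib.Spor.Suz.Perfect.All
import Cfsg.Agent.Lib.Spor.Suz.Gen.All
import Cfsg.Agent.Lib.Spor.Suz.Act2.All
import Cfsg.Agent.Lib.Spor.Suz.Act1.All
import Cfsg.Agent.Lib.Spor.Suz.Act0.All

namespace CfsgLib.Spor.Suz

open CfsgLib.Spor.TC

/-- A generator of the normal subgroup of order three of `⟨a, b, c, d⟩`. -/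
def zs : List (List ℕ) := [[3, 2, 3, 1, 2, 3, 2, 1, 0, 1, 2, 3, 0, 1, 2, 1, 0, 1, 0]]

theorem hall_janko : IsSimpleGroup (Pres 5 relsB) ∧ Nat.card (Pres 5 relsB) = 604800 := by
  refine Act2.cosetData.isSimpleGroup_of_abelian
    (Act2.cosetData.cert.card_le (rels' := relsC) (l := 4) (by decide) (by decide +kernel)
      C3.cosetCert.card_le_bot)
    Act2.bases_ok (by decide +kernel) (by decide) (r := 4) rfl (sizes := [1, 36, 135, 108]) (by decide +kernel)
    (by decide +kernel) Perfect.cosetCert zs _ Gen.cosetCert (by decide +kernel) (by decide +kernel) ?_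
  intro s hs z hz
  simp only [zs, List.mem_singleton] at hz
  subst hz
  simp only [List.mem_cons, List.not_mem_nil, or_false] at hs
  rcases hs with rfl | rfl | rfl | rfl
  · exact ⟨[0], by decide +kernel⟩
  · exact ⟨[0], by decide +kernel⟩
  · exact ⟨[0], by decide +kernel⟩
  · exact ⟨[0, 0], by decide +kernel⟩

theorem g2_four : IsSimpleGroup (Pres 6 relsA) ∧ Nat.card (Pres 6 relsA) = 251596800 := by
  haveI := hall_janko.1
  have hmove : ∃ x ∈ [0, 1, 2, 3, 4], ∃ c, c < Act1.act.n ∧ Act1.act.T x c ≠ c :=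
    ⟨0, by decide, 2, by decide, by decide +kernel⟩
  refine ⟨Act1.cosetData.isSimpleGroup (rels' := relsB) (l := 5) (by decide) (by decide +kernel) hall_janko.2
    (by decide) hmove (r := 3) rfl (sizes := [1, 315, 100]) (by decide +kernel) (by decide +kernel) ?_, ?_⟩
  · exact Or.inr ⟨13, 1, 32, by decide, rfl, by decide, by decide, by decide, by decide⟩
  · exact (Act1.cosetData.card_eq (rels' := relsB) (l := 5) (by decide) (by decide +kernel) hall_janko.2 hmove).2

theorem suz : IsSimpleGroup (Pres 7 relsG) ∧ Nat.card (Pres 7 relsG) = 448345497600 := by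
  haveI := g2_four.1
  have hmove : ∃ x ∈ [0, 1, 2, 3, 4, 5], ∃ c, c < Act0.act.n ∧ Act0.act.T x c ≠ c :=
    ⟨0, by decide, 2, by decide, by decide +kernel⟩
  refine ⟨Act0.cosetData.isSimpleGroup (rels' := relsA) (l := 6) (by decide) (by decide +kernel) g2_four.2
    (by decide) hmove (r := 3) rfl (sizes := [1, 1365, 416]) (by decide +kernel) (by decide +kernel) ?_, ?_⟩
  · exact Or.inl ⟨[2, 3, 11], by decide, by simp [Act0.act]; norm_num, by decide⟩
  · exact (Act0.cosetData.card_eq (rels' := relsA) (l := 6) (by decide) (by decide +kernel) g2_four.2 hmove).2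

end CfsgLib.Spor.Suz
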