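/-
Relators of two further subgroups of the presented Suzuki group.
-/
import Cfsg.Agent.Lib.Spor.TC.Word

namespace CfsgLib.Spor.Suz

open CfsgLib.Spor.TC

/-- Relators on `a, b, c, d, f, g`. -/
def relsH : List PowRel := [
  ([0, 1], 5),
  ([0, 2], 2),
  ([0, 3], 2),
  ([0, 4], 2),
  ([0, 5], 2),
  ([1, 2], 3),
  ([1, 3], 2),
  ([1, 4], 3),
  ([1, 5], 3),
  ([2, 3], 8),
  ([2, 4], 2),
  ([2, 5], 2),
  ([3, 4], 2),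
  ([3, 5], 2),
  ([4, 5], 4),
  ([0, 3, 2, 3, 2, 3, 2, 3, 2], 1),
  ([0, 5, 4, 5, 4], 1),
  ([0, 1, 2, 4], 5),
  ([1, 4, 5], 5)]

/-- Relators on `a, b, c, d, f`. -/
def relsF : List PowRel := [
  ([0, 1], 5),
  ([0, 2], 2),
  ([0, 3], 2),
  ([0, 4], 2),
  ([1, 2], 3),
  ([1, 3], 2),
  ([1, 4], 3),
  ([2, 3], 8),
  ([2, 4], 2),
  ([3, 4], 2),
  ([0, 3, 2, 3, 2, 3, 2, 3, 2], 1),
  ([0, 1, 2, 4], 5)]

end CfsgLib.Spor.Suz
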