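/-
The presented Suzuki group is simple of the order of `Suz`; its subgroup `⟨a, …, f⟩`.
-/
import Cfsg.Agent.Lib.Spor.Suz.Order
import Cfsg.Prelude.Def_Sporadic

namespace CfsgLib.Spor.Suz

open CfsgLib.Spor.TC

theorem isSuz : Cfsg.IsSuz Cfsg.Spor.Suz := by
  obtain ⟨e, -⟩ := coxData.exists_equiv (k := 7) rfl rels_eq
  haveI := suz.1
  exact ⟨e.symm.isSimpleGroup, by rw [← Nat.card_congr e.toEquiv]; exact suz.2⟩

end CfsgLib.Spor.Suz
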