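/-
The subgroup `⟨a, b, c, d, f, g⟩` of the presented Suzuki group has order `19595520` and index `22880`.
-/
import Cfsg.Agent.Lib.Spor.Suz.Order
import Cfsg.Agent.Lib.Spor.Suz.C8.All
import Cfsg.Agent.Lib.Spor.Suz.C9.All
import Cfsg.Agent.Lib.Spor.Suz.Act8.All

namespace CfsgLib.Spor.Suz

open CfsgLib.Spor.TC

theorem card_abcdfg : Nat.card (presSub 7 relsG [0, 1, 2, 3, 5, 6]) = 19595520 := by
  have h9 : Nat.card (Pres 5 relsF) ≠ 0 ∧ Nat.card (Pres 5 relsF) ≤ 56 * 2160 :=
    C9.cosetCert.card_le (rels' := relsC) (l := 4) (by decide) (by decide +kernel) C3.cosetCert.card_le_bot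
  have h8 : Nat.card (Pres 6 relsH) ≠ 0 ∧ Nat.card (Pres 6 relsH) ≤ 162 * (56 * 2160) :=
    C8.cosetCert.card_le (rels' := relsF) (l := 5) (by decide) (by decide +kernel) h9
  haveI := Nat.finite_of_card_ne_zero h8.1
  have hrel : ∀ r ∈ relsH, (r.1.map fun x => [0, 1, 2, 3, 5, 6].getD x 7, r.2) ∈ relsG := by decide +kernel
  refine le_antisymm ?_ ?_
  · rw [← range_subHom (k := 7) (rels := relsG) (rels' := relsH) (emb := [0, 1, 2, 3, 5, 6]) hrel]
    refine (Nat.card_le_card_of_surjective _ (MonoidHom.rangeRestrict_surjective _)).trans ?_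
    exact h8.2
  · refine le_trans (le_of_eq (by decide +kernel : (19595520 : ℕ) = levelsProd Act8.bases)) ?_
    refine card_presSub_ge Act8.valid (by decide) ?_ Act8.bases_ok ?_
    · show Nat.card (Pres 7 relsG) ≠ 0
      rw [suz.2]; decide
    · intro L hL x hx
      refine letters_mem (A := Act8.act) (emb := [0, 1, 2, 3, 5, 6]) (by decide) relsG
        [10, 11, 12, 13, 14, 15, 16, 17, 18, 19, 20, 21] (by decide) Act8.valid.below ?_ x ?_
      · intro y hy
        simp only [List.mem_cons, List.not_mem_nil, or_false] at hy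
        rcases hy with rfl | rfl | rfl | rfl | rfl | rfl | rfl | rfl | rfl | rfl | rfl | rfl <;>
          exact ⟨_, rfl, by decide +kernel⟩
      · have key : ∀ L ∈ Act8.bases, ∀ x ∈ L.gens,
            x ∈ [0, 1, 2, 3, 5, 6] ∨ x ∈ [10, 11, 12, 13, 14, 15, 16, 17, 18, 19, 20, 21] := by
          simp only [Act8.bases, List.forall_mem_cons, List.forall_mem_nil, and_true]
          decide +kernel
        exact key L hL x hx

theorem index_abcdfg : (presSub 7 relsG [0, 1, 2, 3, 5, 6]).index = 22880 := by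
  have h := Subgroup.index_mul_card (presSub 7 relsG [0, 1, 2, 3, 5, 6])
  rw [suz.2, card_abcdfg] at h
  exact Nat.eq_of_mul_eq_mul_right (show 0 < 19595520 by decide) (h.trans (by decide +kernel))

end CfsgLib.Spor.Suz
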